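import Groth.Agent.SchDomLib.Charts

/-!
# Residue fields of affine charts
-/

set_option autoImplicit false
set_option linter.style.haveILetI false
set_option backward.isDefEq.respectTransparency false
set_option backward.isDefEq.respectTransparency.types false

universe u

open CategoryTheory AlgebraicGeometry

namespace SchDomLib

/-- The residue field of a prime of an affine chart is that of its point. -/
theorem exists_residueField_iso {S : Scheme.{u}} {UA : S.Opens} (hUA : IsAffineOpen UA) (P : Ideal Γ(S, UA))
    [hP : P.IsPrime] :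
    ∃ (s : S) (η : S.residueField s ⟶ CommRingCat.of P.ResidueField), IsIso η ∧
      Spec.map η ≫ S.fromSpecResidueField s =
        Spec.map (CommRingCat.ofHom (algebraMap Γ(S, UA) P.ResidueField)) ≫ hUA.fromSpec := by
  let jk : Spec (CommRingCat.of P.ResidueField) ⟶ S :=
    Spec.map (CommRingCat.ofHom (algebraMap Γ(S, UA) P.ResidueField)) ≫ hUA.fromSpec
  let sη := Scheme.SpecToEquivOfField P.ResidueField S jk
  let s : S := sη.1
  let η : S.residueField s ⟶ CommRingCat.of P.ResidueField := sη.2
  have hjk : Spec.map η ≫ S.fromSpecResidueField s = jk :=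
    (Scheme.SpecToEquivOfField P.ResidueField S).symm_apply_apply jk
  let o : Spec (CommRingCat.of P.ResidueField) := IsLocalRing.closedPoint P.ResidueField
  have hs' : s = hUA.fromSpec (⟨P, hP⟩ : PrimeSpectrum Γ(S, UA)) := by
    have h1 : jk o = s := by
      rw [← hjk, Scheme.Hom.comp_apply]
      exact Scheme.fromSpecResidueField_apply _ _
    rw [← h1, Scheme.Hom.comp_apply]
    congr 1
    refine PrimeSpectrum.ext ?_
    change Ideal.comap (algebraMap Γ(S, UA) P.ResidueField) o.asIdeal = P
    rw [show o.asIdeal = ⊥ from (Ideal.eq_bot_or_top _).resolve_right o.isPrime.ne_top,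
      ← RingHom.ker_eq_comap_bot, Ideal.ker_algebraMap_residueField]
  let θ : CommRingCat.of Γ(S, UA) ⟶ S.residueField s := Spec.preimage
    (IsOpenImmersion.lift hUA.fromSpec (S.fromSpecResidueField s) (by
      rintro _ ⟨y, rfl⟩
      rw [Scheme.fromSpecResidueField_apply, hs']
      exact ⟨_, rfl⟩))
  have hθ : Spec.map θ ≫ hUA.fromSpec = S.fromSpecResidueField s := by
    rw [Spec.map_preimage, IsOpenImmersion.lift_fac]
  have hker : RingHom.ker θ.hom = P := by
    obtain ⟨y⟩ : Nonempty ↥(Spec (S.residueField s)) := inferInstance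
    have h1 : Spec.map θ y = (⟨P, hP⟩ : PrimeSpectrum Γ(S, UA)) := hUA.fromSpec.isOpenEmbedding.injective (by
      exact (Scheme.Hom.comp_apply (Spec.map θ) hUA.fromSpec y).symm.trans
        ((congr($hθ y)).trans ((Scheme.fromSpecResidueField_apply _ _).trans hs')))
    have h2 := congrArg PrimeSpectrum.asIdeal h1
    change Ideal.comap θ.hom y.asIdeal = P at h2
    rwa [show y.asIdeal = ⊥ from (Ideal.eq_bot_or_top _).resolve_right y.isPrime.ne_top,
      ← RingHom.ker_eq_comap_bot] at h2
  let r : P.ResidueField →+* S.residueField s := Ideal.ResidueField.lift P θ.hom hker.ge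
    (fun a ha => isUnit_iff_ne_zero.2 fun h0 => ha (hker ▸ h0))
  have hηθ : θ ≫ η = CommRingCat.ofHom (algebraMap Γ(S, UA) P.ResidueField) := by
    apply Spec.map_injective
    rw [← cancel_mono hUA.fromSpec, Spec.map_comp, Category.assoc, hθ, hjk]
  have hsurj : Function.Surjective η.hom := fun c => ⟨r c, by
    have h3 : η.hom.comp r = RingHom.id _ := Ideal.ResidueField.ringHom_ext (RingHom.ext fun a => by
      simp [r]
      exact congr($hηθ a))
    exact RingHom.congr_fun h3 c⟩
  haveI : IsIso η := (ConcreteCategory.isIso_iff_bijective η).2 ⟨η.hom.injective, hsurj⟩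
  exact ⟨s, η, inferInstance, hjk⟩

end SchDomLib
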