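import Groth.Agent.SchDomLib.Scheme

/-!
# Charts for base changes of families of morphisms
-/

set_option autoImplicit false
set_option linter.style.haveILetI false
set_option backward.isDefEq.respectTransparency false
set_option backward.isDefEq.respectTransparency.types false

universe u v

open CategoryTheory CategoryTheory.Limits AlgebraicGeometry TopologicalSpace TensorProduct

namespace SchDomLib

section chart

variable {A B T : Type u} [CommRing A] [CommRing B] [CommRing T] [Algebra A B] [Algebra A T]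
  {X S S' : Scheme.{u}} (p : X ⟶ S) (g : S' ⟶ S) (jA : Spec (CommRingCat.of A) ⟶ S)
  (jB : Spec (CommRingCat.of B) ⟶ X) (jT : Spec (CommRingCat.of T) ⟶ S')

/-- A product chart of a fibre product. -/
theorem exists_chart [IsOpenImmersion jA] [IsOpenImmersion jB] [IsOpenImmersion jT]
    (hB : jB ≫ p = Spec.map (CommRingCat.ofHom (algebraMap A B)) ≫ jA)
    (hT : jT ≫ g = Spec.map (CommRingCat.ofHom (algebraMap A T)) ≫ jA) :
    ∃ e : Spec (CommRingCat.of (T ⊗[A] B)) ⟶ pullback p g,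
      e ≫ pullback.fst p g =
          Spec.map (CommRingCat.ofHom (Algebra.TensorProduct.includeRight : B →ₐ[A] T ⊗[A] B).toRingHom) ≫ jB ∧
        e ≫ pullback.snd p g =
          Spec.map (CommRingCat.ofHom (Algebra.TensorProduct.includeLeftRingHom : T →+* T ⊗[A] B)) ≫ jT ∧
        IsOpenImmersion e ∧
        Set.range e = pullback.fst p g ⁻¹' Set.range jB ∩ pullback.snd p g ⁻¹' Set.range jT := by
  have sq := (isPullback_SpecMap_of_isPushout _ _ _ _ (CommRingCat.isPushout_tensorProduct A T B)).flip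
  let m := pullback.map (Spec.map (CommRingCat.ofHom (algebraMap A B))) (Spec.map (CommRingCat.ofHom (algebraMap A T)))
    p g jB jT jA hB.symm hT.symm
  refine ⟨sq.isoPullback.hom ≫ m, ?_, ?_, inferInstance, ?_⟩
  · simp [m]
  · simp [m]
  · rw [← Scheme.Pullback.range_map _ _ _ _ _ _ _ hB.symm hT.symm]
    exact Set.Subset.antisymm (by rintro _ ⟨y, rfl⟩; exact ⟨sq.isoPullback.hom y, (Scheme.Hom.comp_apply _ _ _).symm⟩)
      (by
        rintro _ ⟨y, rfl⟩
        refine ⟨sq.isoPullback.inv y, ?_⟩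
        rw [← Scheme.Hom.comp_apply, Iso.inv_hom_id_assoc])

end chart

section family

variable {X S : Scheme.{u}} (p : X ⟶ S) {ι : Type u} {Z : ι → Scheme.{u}} (f : ∀ i, Z i ⟶ X)

/-- The base change of the family along `g`. -/
noncomputable def famMap {S' : Scheme.{u}} (g : S' ⟶ S) (i : ι) : pullback (f i ≫ p) g ⟶ pullback p g :=
  pullback.map (f i ≫ p) g p g (f i) (𝟙 S') (𝟙 S) (Category.comp_id _) ((Category.comp_id _).trans (Category.id_comp _).symm)

variable {UA : S.Opens} (hUA : IsAffineOpen UA) {UB : X.Opens} (hUB : IsAffineOpen UB) (hle : UB ≤ p ⁻¹ᵁ UA)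

/-- The affine opens of the members lying over `UB`. -/
def Pieces (f : ∀ i, Z i ⟶ X) (UB : X.Opens) : Type u :=
  Σ i, {W : (Z i).Opens // IsAffineOpen W ∧ W ≤ f i ⁻¹ᵁ UB}

variable {f}

/-- The ring of a piece. -/
def pieceRing (l : Pieces f UB) : Type u := Γ(Z l.1, l.2.1)

noncomputable instance (l : Pieces f UB) : CommRing (pieceRing l) := inferInstanceAs (CommRing Γ(Z l.1, l.2.1))

theorem piece_le (hle : UB ≤ p ⁻¹ᵁ UA) (l : Pieces f UB) : l.2.1 ≤ (f l.1 ≫ p) ⁻¹ᵁ UA :=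
  fun _ hz => hle (l.2.2.2 hz)

end family

section rings

variable {X S : Scheme.{u}} {p : X ⟶ S} {ι : Type u} {Z : ι → Scheme.{u}} {f : ∀ i, Z i ⟶ X}
  {UA : S.Opens} (hUA : IsAffineOpen UA) {UB : X.Opens} (hUB : IsAffineOpen UB) (hle : UB ≤ p ⁻¹ᵁ UA)
  [Algebra Γ(S, UA) Γ(X, UB)] [∀ l : Pieces f UB, Algebra Γ(S, UA) (pieceRing l)]
  (halgB : algebraMap Γ(S, UA) Γ(X, UB) = (p.appLE UA UB hle).hom)
  (halgC : ∀ l : Pieces f UB, algebraMap Γ(S, UA) (pieceRing l) = ((f l.1 ≫ p).appLE UA l.2.1 (piece_le p hle l)).hom)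
  (u : ∀ l : Pieces f UB, Γ(X, UB) →ₐ[Γ(S, UA)] pieceRing l)
  (hu : ∀ l, (u l).toRingHom = ((f l.1).appLE UB l.2.1 l.2.2.2).hom)
  {T : Type u} [CommRing T] [Algebra Γ(S, UA) T] {S' : Scheme.{u}} (g : S' ⟶ S)
  (jT : Spec (CommRingCat.of T) ⟶ S') [IsOpenImmersion jT]
  (hT : jT ≫ g = Spec.map (CommRingCat.ofHom (algebraMap Γ(S, UA) T)) ≫ hUA.fromSpec)

include hUA hUB hle halgB halgC hu hT

theorem exists_charts :
    ∃ (e : Spec (CommRingCat.of (T ⊗[Γ(S, UA)] Γ(X, UB))) ⟶ pullback p g)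
      (el : ∀ l, Spec (CommRingCat.of (T ⊗[Γ(S, UA)] pieceRing l)) ⟶ pullback (f l.1 ≫ p) g),
      IsOpenImmersion e ∧ (∀ l, IsOpenImmersion (el l)) ∧
      Set.range e = pullback.fst p g ⁻¹' (UB : Set X) ∩ pullback.snd p g ⁻¹' Set.range jT ∧
      (∀ l, Set.range (el l) = pullback.fst (f l.1 ≫ p) g ⁻¹' (l.2.1 : Set (Z l.1)) ∩
        pullback.snd (f l.1 ≫ p) g ⁻¹' Set.range jT) ∧
      ∀ l, el l ≫ famMap p f g l.1 = Spec.map (CommRingCat.ofHom (bc u T l).toRingHom) ≫ e := by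
  have hB : hUB.fromSpec ≫ p = Spec.map (CommRingCat.ofHom (algebraMap Γ(S, UA) Γ(X, UB))) ≫ hUA.fromSpec := by
    rw [halgB, CommRingCat.ofHom_hom, IsAffineOpen.SpecMap_appLE_fromSpec]
  have hC : ∀ l : Pieces f UB, l.2.2.1.fromSpec ≫ f l.1 ≫ p =
      Spec.map (CommRingCat.ofHom (algebraMap Γ(S, UA) (pieceRing l))) ≫ hUA.fromSpec := fun l => by
    rw [halgC]
    exact (IsAffineOpen.SpecMap_appLE_fromSpec (f l.1 ≫ p) hUA l.2.2.1 (piece_le p hle l)).symm
  obtain ⟨e, he₁, he₂, heo, her⟩ := exists_chart p g hUA.fromSpec hUB.fromSpec jT hB hT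
  have hel := fun l : Pieces f UB => exists_chart (B := pieceRing l) (f l.1 ≫ p) g hUA.fromSpec l.2.2.1.fromSpec jT (hC l) hT
  choose el hel₁ hel₂ helo helr using hel
  refine ⟨e, el, heo, helo, ?_, fun l => ?_, fun l => ?_⟩
  · rw [her, IsAffineOpen.range_fromSpec]
  · exact (helr l).trans (congrArg (fun r => pullback.fst (f l.1 ≫ p) g ⁻¹' r ∩ pullback.snd (f l.1 ≫ p) g ⁻¹' Set.range jT)
      (IsAffineOpen.range_fromSpec l.2.2.1))
  · apply pullback.hom_ext
    · rw [Category.assoc, Category.assoc, he₁, famMap, pullback.lift_fst, reassoc_of% (hel₁ l),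
        ← IsAffineOpen.SpecMap_appLE_fromSpec (f l.1) hUB l.2.2.1 l.2.2.2, ← Category.assoc, ← Category.assoc,
        ← Spec.map_comp, ← Spec.map_comp, ← CommRingCat.ofHom_hom ((f l.1).appLE UB l.2.1 l.2.2.2), ← hu]
      congr 2
    · rw [Category.assoc, Category.assoc, he₂, famMap, pullback.lift_snd, Category.comp_id, hel₂ l, ← Category.assoc,
        ← Spec.map_comp]
      congr 2
      ext t
      simp [bc]

/-- Dominance of the base changed family gives dominance of the tensored rings. -/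
theorem dom_of_sdom (h : SDom (famMap p f g)) : Dom fun l => (bc u T l).toRingHom := by
  obtain ⟨e, el, heo, helo, her, helr, hcomm⟩ := exists_charts hUA hUB hle halgB halgC u hu g jT hT
  refine (sdom_spec_iff (R := CommRingCat.of (T ⊗[Γ(S, UA)] Γ(X, UB)))
    (C := fun l => CommRingCat.of (T ⊗[Γ(S, UA)] pieceRing l))
    fun l => CommRingCat.ofHom (bc u T l).toRingHom).1 (h.restrict e _ fun i z hz => ?_)
  rw [her] at hz
  obtain ⟨hz₁, hz₂⟩ := hz
  have hz₁' : f i (pullback.fst (f i ≫ p) g z) ∈ UB := by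
    rw [← Scheme.Hom.comp_apply]
    change famMap p f g i z ∈ pullback.fst p g ⁻¹' (UB : Set X) at hz₁
    rw [Set.mem_preimage, ← Scheme.Hom.comp_apply, famMap, pullback.lift_fst] at hz₁
    exact hz₁
  obtain ⟨W, hW, hzW, hWU⟩ := exists_isAffineOpen_mem_and_subset (X := Z i) (U := f i ⁻¹ᵁ UB)
    (x := pullback.fst (f i ≫ p) g z) hz₁'
  refine ⟨⟨i, W, hW, hWU⟩, el ⟨i, W, hW, hWU⟩, helo _, ?_, hcomm _⟩
  rw [helr ⟨i, W, hW, hWU⟩]
  refine ⟨hzW, ?_⟩
  change famMap p f g i z ∈ pullback.snd p g ⁻¹' Set.range jT at hz₂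
  rw [Set.mem_preimage, ← Scheme.Hom.comp_apply, famMap, pullback.lift_snd, Category.comp_id] at hz₂
  exact hz₂

end rings

end SchDomLib
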