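import Groth.Agent.SchDomLib.Graded
import Mathlib.AlgebraicGeometry.Pullbacks

/-!
# Schematically dominant families of morphisms and their affine form
-/

set_option autoImplicit false
set_option linter.style.haveILetI false
set_option backward.isDefEq.respectTransparency false
set_option backward.isDefEq.respectTransparency.types false

universe u v

open CategoryTheory CategoryTheory.Limits AlgebraicGeometry TopologicalSpace TensorProduct

namespace SchDomLib

/-- A family is schematically dominant. -/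
def SDom {K : Type v} {Y : Scheme.{u}} {W : K → Scheme.{u}} (ψ : ∀ k, W k ⟶ Y) : Prop :=
  ∀ (V : Y.Opens) (t : Γ(Y, V)), (∀ k, (ψ k).app V t = 0) → t = 0

theorem app_eq_zero_congr {W Y : Scheme.{u}} {a b : W ⟶ Y} (e : a = b) {V : Y.Opens} {t : Γ(Y, V)}
    (h : a.app V t = 0) : b.app V t = 0 := by subst e; exact h

theorem eq_zero_of_jointly_surjective {W : Scheme.{u}} {U : W.Opens} (s : Γ(W, U))
    (h : ∀ w ∈ U, ∃ (W' : Scheme.{u}) (e : W' ⟶ W), IsOpenImmersion e ∧ w ∈ Set.range e ∧ e.app U s = 0) :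
    s = 0 := by
  refine TopCat.Presheaf.section_ext W.sheaf U s 0 fun w hw => ?_
  obtain ⟨W', e, he, ⟨w', rfl⟩, hs⟩ := h w hw
  refine ((ConcreteCategory.isIso_iff_bijective (e.stalkMap w')).1 inferInstance).1 ?_
  show e.stalkMap w' (W.presheaf.germ U (e w') hw s) = e.stalkMap w' (W.presheaf.germ U (e w') hw 0)
  rw [Scheme.Hom.germ_stalkMap_apply, hs, map_zero]
  simp

/-- Dominance restricted along an open immersion of the target. -/
theorem SDom.restrict {K : Type v} {P : Scheme.{u}} {Z : K → Scheme.{u}} {ψ : ∀ k, Z k ⟶ P} (h : SDom ψ)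
    {Y : Scheme.{u}} (e : Y ⟶ P) [IsOpenImmersion e] {L : Type u} {W : L → Scheme.{u}} (φ : ∀ l, W l ⟶ Y)
    (hcov : ∀ k (z : Z k), ψ k z ∈ Set.range e →
      ∃ l, ∃ el : W l ⟶ Z k, IsOpenImmersion el ∧ z ∈ Set.range el ∧ el ≫ ψ k = φ l ≫ e) : SDom φ := by
  intro V t ht
  let t' : Γ(P, e ''ᵁ V) := (e.appIso V).inv t
  have key : e.app (e ''ᵁ V) t' = Y.presheaf.map (eqToHom (e.preimage_image_eq V)).op t :=
    congr($(e.appIso_inv_app V) t)
  have h0 : t' = 0 := h _ _ fun k => eq_zero_of_jointly_surjective _ fun z hz => by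
    obtain ⟨y, -, hy⟩ := hz
    obtain ⟨l, el, hel, hzl, heq⟩ := hcov k z ⟨y, hy⟩
    refine ⟨_, el, hel, hzl, ?_⟩
    refine app_eq_zero_congr (a := φ l ≫ e) heq.symm ?_
    change (φ l).app _ (e.app _ t') = 0
    rw [key, ← CategoryTheory.comp_apply, Scheme.Hom.naturality, CategoryTheory.comp_apply, ht l, map_zero]
  rw [h0, map_zero] at key
  have := congrArg (Y.presheaf.map (eqToHom (e.preimage_image_eq V).symm).op) key
  rw [map_zero, ← CategoryTheory.comp_apply, ← Functor.map_comp, ← op_comp, eqToHom_trans, eqToHom_refl,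
    op_id, CategoryTheory.Functor.map_id] at this
  exact this.symm

/-- Dominance is local on the target. -/
theorem SDom.of_cover {K : Type v} {P : Scheme.{u}} {Z : K → Scheme.{u}} {ψ : ∀ k, Z k ⟶ P}
    (h : ∀ w : P, ∃ (Y : Scheme.{u}) (e : Y ⟶ P) (L : Type u) (W : L → Scheme.{u}) (φ : ∀ l, W l ⟶ Y),
      IsOpenImmersion e ∧ w ∈ Set.range e ∧ SDom φ ∧ ∀ l, ∃ k, ∃ el : W l ⟶ Z k, el ≫ ψ k = φ l ≫ e) :
    SDom ψ := by
  intro V t ht
  refine eq_zero_of_jointly_surjective _ fun w hw => ?_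
  obtain ⟨Y, e, L, W, φ, he, hwe, hφ, hl⟩ := h w
  refine ⟨Y, e, he, hwe, hφ _ _ fun l => ?_⟩
  obtain ⟨k, el, hel⟩ := hl l
  refine (app_eq_zero_congr (b := φ l ≫ e) hel ?_ : (φ l ≫ e).app V t = 0)
  change el.app _ ((ψ k).app V t) = 0
  rw [ht k, map_zero]

section affine

variable {L : Type u} {R : CommRingCat.{u}} {C : L → CommRingCat.{u}} (φ : ∀ l, R ⟶ C l)

theorem app_toOpen {R₀ R₁ : CommRingCat.{u}} (θ : R₀ ⟶ R₁) (V : (Spec R₀).Opens) (b : R₀) :
    (Spec.map θ).app V ((Spec R₀).presheaf.map (homOfLE (le_top : V ≤ ⊤)).op ((Scheme.ΓSpecIso R₀).inv b)) =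
      (Spec R₁).presheaf.map (homOfLE (le_top : Spec.map θ ⁻¹ᵁ V ≤ ⊤)).op ((Scheme.ΓSpecIso R₁).inv (θ b)) := by
  have h2 : (Scheme.ΓSpecIso R₁).inv (θ b) = (Spec.map θ).appTop ((Scheme.ΓSpecIso R₀).inv b) :=
    congr($(Scheme.ΓSpecIso_inv_naturality θ) b)
  rw [h2, ← CategoryTheory.comp_apply, Scheme.Hom.naturality, CategoryTheory.comp_apply]
  rfl

theorem preimage_basicOpen' {R₀ R₁ : CommRingCat.{u}} (θ : R₀ ⟶ R₁) (g : R₀) :
    Spec.map θ ⁻¹ᵁ (Spec R₀).basicOpen ((Scheme.ΓSpecIso R₀).inv g) =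
      (Spec R₁).basicOpen ((Scheme.ΓSpecIso R₁).inv (θ g)) := by
  rw [Scheme.preimage_basicOpen]
  congr 1
  exact (congr($(Scheme.ΓSpecIso_inv_naturality θ) g)).symm

/-- The restriction of a global function to a basic open vanishes iff a power of the generator kills it. -/
theorem res_eq_zero_iff (R₀ : CommRingCat.{u}) (g b : R₀) {V : (Spec R₀).Opens}
    (hV : V = (Spec R₀).basicOpen ((Scheme.ΓSpecIso R₀).inv g)) :
    (Spec R₀).presheaf.map (homOfLE (le_top : V ≤ ⊤)).op ((Scheme.ΓSpecIso R₀).inv b) = 0 ↔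
      ∃ m : ℕ, g ^ m * b = 0 := by
  subst hV
  let s := (Scheme.ΓSpecIso R₀).inv g
  haveI : IsLocalization.Away s Γ(Spec R₀, (Spec R₀).basicOpen s) := (isAffineOpen_top (Spec R₀)).isLocalization_basicOpen s
  change algebraMap Γ(Spec R₀, ⊤) Γ(Spec R₀, (Spec R₀).basicOpen s) _ = 0 ↔ _
  rw [IsLocalization.map_eq_zero_iff (Submonoid.powers s)]
  constructor
  · rintro ⟨⟨_, m, rfl⟩, hm⟩
    refine ⟨m, (Scheme.ΓSpecIso R₀).symm.commRingCatIsoToRingEquiv.injective ?_⟩
    change (Scheme.ΓSpecIso R₀).inv (g ^ m * b) = (Scheme.ΓSpecIso R₀).inv 0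
    rw [map_mul, map_pow, map_zero]
    exact hm
  · rintro ⟨m, hm⟩
    refine ⟨⟨_, m, rfl⟩, ?_⟩
    change (Scheme.ΓSpecIso R₀).inv g ^ m * (Scheme.ΓSpecIso R₀).inv b = 0
    rw [← map_pow, ← map_mul, hm, map_zero]

theorem sdom_spec_iff : SDom (fun l => Spec.map (φ l)) ↔ Dom fun l => (φ l).hom := by
  constructor
  · intro h g b hb
    refine (res_eq_zero_iff R g b rfl).1 (h _ _ fun l => ?_)
    rw [app_toOpen, res_eq_zero_iff _ _ _ (preimage_basicOpen' (φ l) g)]
    obtain ⟨m, hm⟩ := hb l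
    exact ⟨m, by rw [← map_pow, ← map_mul]; exact hm⟩
  · intro h V t ht
    refine eq_zero_of_jointly_surjective _ fun w hw => ?_
    obtain ⟨a, haV, haw⟩ := (isAffineOpen_top (Spec R)).exists_basicOpen_le ⟨w, hw⟩ (Opens.mem_top w)
    obtain ⟨g, rfl⟩ := (Scheme.ΓSpecIso R).symm.commRingCatIsoToRingEquiv.surjective a
    let O := (Spec R).basicOpen ((Scheme.ΓSpecIso R).inv g)
    let s := (Spec R).presheaf.map (homOfLE (show O ≤ V from haV)).op t
    haveI : IsLocalization.Away ((Scheme.ΓSpecIso R).inv g) Γ(Spec R, O) :=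
      (isAffineOpen_top (Spec R)).isLocalization_basicOpen _
    obtain ⟨n, a, ha⟩ := IsLocalization.Away.surj ((Scheme.ΓSpecIso R).inv g) s
    obtain ⟨b, rfl⟩ := (Scheme.ΓSpecIso R).symm.commRingCatIsoToRingEquiv.surjective a
    have hb : ∀ l, ∃ m : ℕ, (φ l).hom (g ^ m * b) = 0 := fun l => by
      have h0 : (Spec.map (φ l)).app O s = 0 := by
        rw [← CategoryTheory.comp_apply, Scheme.Hom.naturality, CategoryTheory.comp_apply, ht l, map_zero]
      have h1 := congrArg ((Spec.map (φ l)).app O) ha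
      rw [map_mul, h0, zero_mul] at h1
      obtain ⟨m, hm⟩ := (res_eq_zero_iff _ _ _ (preimage_basicOpen' (φ l) g)).1
        ((app_toOpen (φ l) O b).symm.trans h1.symm)
      exact ⟨m, by rw [map_mul, map_pow]; exact hm⟩
    have hb0 := (res_eq_zero_iff R g b rfl).2 (h g b hb)
    have hs : s = 0 :=
      ((IsLocalization.Away.algebraMap_isUnit (S := Γ(Spec R, O)) ((Scheme.ΓSpecIso R).inv g)).pow n).mul_left_eq_zero.1
        (ha.trans hb0)
    refine ⟨_, O.ι, inferInstance, by rw [Scheme.Opens.range_ι]; exact haw, ?_⟩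
    rw [Scheme.Opens.ι_app]
    have := congrArg ((Spec R).presheaf.map (homOfLE (show O.ι ''ᵁ (O.ι ⁻¹ᵁ V) ≤ O from
      Scheme.Hom.image_preimage_eq_opensRange_inf O.ι V ▸ (inf_le_left.trans (Scheme.Opens.opensRange_ι O).le))).op) hs
    rw [map_zero, ← CategoryTheory.comp_apply, ← Functor.map_comp, ← op_comp] at this
    exact this

end affine

end SchDomLib
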