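import Mathlib
import Groth.Agent.RichLib.PrincipalStrata

/-!
# Universally schematically dominant families: the algebra (EGA IV 11.10.9)
-/

set_option autoImplicit false
set_option linter.style.haveILetI false

universe u v

open TensorProduct

noncomputable section

namespace SchDomLib

/-- An element killed on every member after localising at `g` is killed by a power of `g`. -/
def Dom {J : Type v} {B : Type u} [CommRing B] {C : J → Type u} [∀ j, CommRing (C j)] (φ : ∀ j, B →+* C j) : Prop :=
  ∀ g b : B, (∀ j, ∃ m : ℕ, φ j (g ^ m * b) = 0) → ∃ m : ℕ, g ^ m * b = 0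

variable {J : Type v}

theorem Dom.of_equiv {B B' : Type u} [CommRing B] [CommRing B'] {C C' : J → Type u} [∀ j, CommRing (C j)]
    [∀ j, CommRing (C' j)] {φ : ∀ j, B →+* C j} {φ' : ∀ j, B' →+* C' j} (h : Dom φ) (e : B ≃+* B')
    (e' : ∀ j, C j ≃+* C' j) (comm : ∀ j b, e' j (φ j b) = φ' j (e b)) : Dom φ' := by
  intro g b hb
  obtain ⟨g, rfl⟩ := e.surjective g
  obtain ⟨b, rfl⟩ := e.surjective b
  obtain ⟨m, hm⟩ := h g b fun j => (hb j).imp fun m hm => (e' j).injective (by
    rw [comm, map_mul, map_pow, hm, map_zero])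
  exact ⟨m, by rw [← map_pow, ← map_mul, hm, map_zero]⟩

section flatBaseChange

variable {B : Type u} [CommRing B]

/-- A module killed by `P` tensored with `B_f / P` maps to the localisation at `f`. -/
def toLocalized (P : Ideal B) (f : B) (D : Type u) [AddCommGroup D] [Module B D] (hD : ∀ a ∈ P, ∀ d : D, a • d = 0) :
    ((Localization.Away f) ⧸ P.map (algebraMap B (Localization.Away f))) ⊗[B] D →ₗ[B]
      LocalizedModule (Submonoid.powers f) D :=
  let β : Localization.Away f →ₗ[B] D →ₗ[B] LocalizedModule (Submonoid.powers f) D :=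
    LinearMap.mk₂ B (fun a d => a • LocalizedModule.mkLinearMap (Submonoid.powers f) D d)
      (fun a a' d => add_smul a a' _) (fun c a d => smul_assoc c a _)
      (fun a d d' => by rw [map_add, smul_add]) (fun c a d => by rw [map_smul, smul_comm])
  TensorProduct.lift (((P.map (algebraMap B (Localization.Away f))).restrictScalars B).liftQ β (by
    intro a ha
    refine Submodule.span_induction (p := fun a _ => β a = 0) ?_ (map_zero _) ?_ ?_ ha
    · rintro _ ⟨c, hc, rfl⟩
      ext d
      change algebraMap B (Localization.Away f) c • LocalizedModule.mkLinearMap (Submonoid.powers f) D d = 0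
      rw [algebraMap_smul, ← map_smul, hD c hc d, map_zero]
    · intro x y _ _ hx hy; rw [map_add, hx, hy, add_zero]
    · intro c x _ hx
      ext d
      change (c * x) • LocalizedModule.mkLinearMap (Submonoid.powers f) D d = 0
      rw [mul_smul, show x • LocalizedModule.mkLinearMap (Submonoid.powers f) D d = 0 from LinearMap.congr_fun hx d, smul_zero]))

theorem toLocalized_one_tmul (P : Ideal B) (f : B) (D : Type u) [AddCommGroup D] [Module B D]
    (hD : ∀ a ∈ P, ∀ d : D, a • d = 0) (d : D) :
    toLocalized P f D hD (1 ⊗ₜ d) = LocalizedModule.mkLinearMap (Submonoid.powers f) D d :=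
  one_smul (Localization.Away f) _

theorem exists_pow_smul_eq_zero (P : Ideal B) (f : B) (D : Type u) [AddCommGroup D] [Module B D]
    (hD : ∀ a ∈ P, ∀ d : D, a • d = 0) (d : D)
    (h : (1 : (Localization.Away f) ⧸ P.map (algebraMap B (Localization.Away f))) ⊗ₜ[B] d = 0) :
    ∃ m : ℕ, f ^ m • d = 0 := by
  have h' := congrArg (toLocalized P f D hD) h
  rw [toLocalized_one_tmul, map_zero] at h'
  obtain ⟨⟨_, m, rfl⟩, hm⟩ := (IsLocalizedModule.eq_zero_iff (Submonoid.powers f) _).1 h'
  exact ⟨m, hm⟩

variable [IsNoetherianRing B] {C : J → Type u} [∀ j, CommRing (C j)] [∀ j, Algebra B (C j)]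

set_option maxHeartbeats 1600000 in
set_option synthInstance.maxHeartbeats 200000 in
/-- Schematic dominance is preserved by flat finite type base change over a Noetherian base. -/
theorem eq_zero_of_tmul_one (H : Dom fun j => algebraMap B (C j)) {R : Type u} [CommRing R] [Algebra B R]
    [Algebra.FiniteType B R] [Module.Flat B R] (x : R) (hx : ∀ j, x ⊗ₜ[B] (1 : C j) = 0) : x = 0 := by
  classical
  by_contra hx0
  haveI : IsNoetherianRing R := Algebra.FiniteType.isNoetherianRing B R
  let S : Set (Ideal R) := {I | ∃ b : R, b ≠ 0 ∧ (∀ j, b ⊗ₜ[B] (1 : C j) = 0) ∧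
    I = LinearMap.ker (LinearMap.toSpanSingleton R R b)}
  obtain ⟨Q, ⟨b, hb0, hb, rfl⟩, hmax⟩ := (wellFounded_gt (α := Ideal R)).has_min S ⟨_, x, hx0, hx, rfl⟩
  let Q : Ideal R := LinearMap.ker (LinearMap.toSpanSingleton R R b)
  have hQmem : ∀ r, r ∈ Q ↔ r * b = 0 := fun r => Iff.rfl
  haveI hQ : Q.IsPrime := by
    refine ⟨fun e => hb0 (by simpa using (hQmem 1).1 (e ▸ Submodule.mem_top)), fun {a c} hac => ?_⟩
    by_contra hcon
    push Not at hcon
    refine hmax (LinearMap.ker (LinearMap.toSpanSingleton R R (c * b)))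
      ⟨c * b, fun e => hcon.2 ((hQmem c).2 e), fun j => ?_, rfl⟩ (lt_of_le_of_ne ?_ ?_)
    · have := congrArg ((TensorProduct.map (LinearMap.mulLeft B c) (LinearMap.id : C j →ₗ[B] C j))) (hb j)
      simpa using this
    · intro r hr
      change r * (c * b) = 0
      rw [mul_left_comm, (hQmem r).1 hr, mul_zero]
    · intro e
      have ha : a ∈ LinearMap.ker (LinearMap.toSpanSingleton R R (c * b)) := by
        change a * (c * b) = 0
        rw [← mul_assoc]; exact (hQmem _).1 hac
      exact hcon.1 (e.ge ha)
  let P : Ideal B := Q.comap (algebraMap B R)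
  haveI : P.IsPrime := Ideal.IsPrime.comap _
  -- the elements killed by `P`
  obtain ⟨n, a, ha⟩ := Submodule.fg_iff_exists_fin_generating_family.1 (IsNoetherian.noetherian P)
  let μ : B →ₗ[B] (Fin n → B) := LinearMap.pi fun l => LinearMap.mulLeft B (a l)
  let V := LinearMap.ker μ
  have hVP : ∀ c ∈ P, ∀ v : V, c • v = 0 := by
    intro c hc v
    rw [← ha] at hc
    refine Submodule.span_induction (p := fun c _ => c • v = 0) ?_ (zero_smul _ _) ?_ ?_ hc
    · rintro _ ⟨l, rfl⟩
      exact Subtype.ext (congrFun (LinearMap.mem_ker.1 v.2) l)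
    · intro x y _ _ hx hy; rw [add_smul, hx, hy, add_zero]
    · intro d y _ hy; rw [smul_eq_mul, mul_smul, hy, smul_zero]
  obtain ⟨y, hy⟩ : b ⊗ₜ[B] (1 : B) ∈ LinearMap.range (LinearMap.lTensor R V.subtype) := by
    refine ((Module.Flat.lTensor_exact R (LinearMap.exact_subtype_ker_map μ)) _).1 ?_
    apply (TensorProduct.piScalarRight B B R (Fin n)).injective
    ext l
    have hal : a l ∈ P := ha ▸ Submodule.subset_span ⟨l, rfl⟩
    have h0 : algebraMap B R (a l) * b = 0 := hal
    simp [μ, Algebra.smul_def, h0]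
  obtain ⟨f, hfP, hfree⟩ := RichLib.PrincipalStrata.exists_free_step R R P (Ideal.IsPrime.comap (algebraMap B R) (K := Q)).ne_top
  let L := (Localization.Away f) ⧸ P.map (algebraMap B (Localization.Away f))
  haveI : Module.Free L (L ⊗[B] R) := hfree L
    ((IsLocalization.Away.algebraMap_isUnit (S := Localization.Away f) f).map (Ideal.Quotient.mk _))
    (fun c hc => Ideal.Quotient.eq_zero_iff_mem.2 (Ideal.mem_map_of_mem _ hc))
  let ι := Module.Free.ChooseBasisIndex L (L ⊗[B] R)
  let e : (L ⊗[B] R) ≃ₗ[L] (ι →₀ L) := (Module.Free.chooseBasis L (L ⊗[B] R)).repr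
  let c : ι → R →ₗ[B] L := fun l =>
    ((Finsupp.lapply l).comp e.toLinearMap).restrictScalars B ∘ₗ TensorProduct.mk B L R 1
  let E : L ⊗[B] (R ⊗[B] V) ≃ₗ[B] (ι →₀ L ⊗[B] V) :=
    (TensorProduct.assoc B L R V).symm ≪≫ₗ
      TensorProduct.congr (e.restrictScalars B) (LinearEquiv.refl B V) ≪≫ₗ
      TensorProduct.finsuppLeft B B L V ι
  have hE : ∀ (z : R ⊗[B] V) (l : ι), E (1 ⊗ₜ z) l = TensorProduct.map (c l) LinearMap.id z := by
    intro z l
    induction z using TensorProduct.induction_on with
    | zero => simp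
    | tmul r v => simp [E, c, TensorProduct.finsuppLeft_apply_tmul_apply]
    | add z w hz hw => rw [TensorProduct.tmul_add, map_add, Finsupp.add_apply, hz, hw, map_add]
  have hzero : (1 : L) ⊗ₜ[B] y = 0 := by
    refine E.injective (Finsupp.ext fun l => ?_)
    rw [hE, map_zero, Finsupp.zero_apply]
    let w := TensorProduct.map (c l) LinearMap.id y
    -- write `w` with a single denominator
    obtain ⟨v, k, hv⟩ : ∃ (v : V) (k : ℕ), f ^ k • w = (1 : L) ⊗ₜ[B] v := by
      induction w using TensorProduct.induction_on with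
      | zero => exact ⟨0, 0, by simp⟩
      | tmul l v =>
        obtain ⟨l, rfl⟩ := Ideal.Quotient.mk_surjective l
        obtain ⟨k, d, hd⟩ := IsLocalization.Away.surj f l
        refine ⟨d • v, k, ?_⟩
        rw [TensorProduct.smul_tmul', TensorProduct.tmul_smul, TensorProduct.smul_tmul']
        congr 1
        change Ideal.Quotient.mk _ (f ^ k • l) = Ideal.Quotient.mk _ (d • (1 : Localization.Away f))
        rw [Algebra.smul_def, Algebra.smul_def, mul_one, map_pow, mul_comm, hd]
      | add z w hz hw =>
        obtain ⟨v, k, hv⟩ := hz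
        obtain ⟨v', k', hv'⟩ := hw
        refine ⟨f ^ k' • v + f ^ k • v', k + k', ?_⟩
        rw [TensorProduct.tmul_add, TensorProduct.tmul_smul, TensorProduct.tmul_smul, ← hv, ← hv', smul_add, ← mul_smul,
          ← mul_smul, ← pow_add, ← pow_add, Nat.add_comm k' k]
    suffices hh : ∃ m : ℕ, f ^ m • v = 0 by
      obtain ⟨m, hm⟩ := hh
      have h1 : f ^ (m + k) • w = 0 := by
        rw [pow_add, mul_smul, hv, ← TensorProduct.tmul_smul, hm, TensorProduct.tmul_zero]
      rw [← algebraMap_smul L (f ^ (m + k)) w, map_pow] at h1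
      exact (((IsLocalization.Away.algebraMap_isUnit (S := Localization.Away f) f).map
          (Ideal.Quotient.mk (P.map (algebraMap B (Localization.Away f))))).pow (m + k)).smul_eq_zero.1 h1
    obtain ⟨m, hm⟩ := H f (v : B) fun j => by
      let φ : B →ₗ[B] C j := Algebra.linearMap B (C j)
      let D : Submodule B (C j) := LinearMap.ker (LinearMap.pi fun l => LinearMap.lsmul B (C j) (a l))
      have hDP : ∀ c ∈ P, ∀ d : D, c • d = 0 := by
        intro c hc d
        rw [← ha] at hc
        refine Submodule.span_induction (p := fun c _ => c • d = 0) ?_ (zero_smul _ _) ?_ ?_ hc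
        · rintro _ ⟨l, rfl⟩
          exact Subtype.ext (congrFun (LinearMap.mem_ker.1 d.2) l)
        · intro x y _ _ hx hy; rw [add_smul, hx, hy, add_zero]
        · intro d' y _ hy; rw [smul_eq_mul, mul_smul, hy, smul_zero]
      let φV : V →ₗ[B] D := (φ.comp V.subtype).codRestrict D fun v => by
        refine LinearMap.mem_ker.2 (funext fun l => ?_)
        change a l • φ (v : B) = 0
        rw [← map_smul, show a l • (v : B) = 0 from congrFun (LinearMap.mem_ker.1 v.2) l, map_zero]
      have h1 : TensorProduct.map LinearMap.id φV y = 0 := by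
        refine Module.Flat.lTensor_preserves_injective_linearMap (M := R) D.subtype Subtype.val_injective ?_
        rw [map_zero]
        have h2 : LinearMap.lTensor R φ (b ⊗ₜ[B] (1 : B)) = 0 := by simpa [φ] using hb j
        rw [← hy] at h2
        rw [← h2]
        change LinearMap.lTensor R D.subtype (LinearMap.lTensor R φV y) = _
        rw [← LinearMap.lTensor_comp_apply, ← LinearMap.lTensor_comp_apply]
        rfl
      have h3 : (1 : L) ⊗ₜ[B] φV v = 0 := by
        have h5 : TensorProduct.map LinearMap.id φV w = 0 := by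
          change TensorProduct.map LinearMap.id φV (TensorProduct.map (c l) LinearMap.id y) = 0
          rw [← LinearMap.comp_apply, ← TensorProduct.map_comp, LinearMap.id_comp, LinearMap.comp_id,
            show TensorProduct.map (c l) φV = (TensorProduct.map (c l) LinearMap.id).comp
              (TensorProduct.map LinearMap.id φV) by rw [← TensorProduct.map_comp, LinearMap.id_comp, LinearMap.comp_id],
            LinearMap.comp_apply, h1, map_zero]
        calc (1 : L) ⊗ₜ[B] φV v = TensorProduct.map LinearMap.id φV ((1 : L) ⊗ₜ v) := rfl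
          _ = f ^ k • TensorProduct.map LinearMap.id φV w := by rw [← hv, map_smul]
          _ = 0 := by rw [h5, smul_zero]
      obtain ⟨m, hm⟩ := exists_pow_smul_eq_zero P f D hDP _ h3
      exact ⟨m, by simpa [φV, φ, Algebra.smul_def] using congrArg Subtype.val hm⟩
    exact ⟨m, Subtype.ext hm⟩
  have hPD : ∀ c ∈ P, ∀ z : R ⊗[B] V, c • z = 0 := by
    intro c hc z
    induction z using TensorProduct.induction_on with
    | zero => rw [smul_zero]
    | tmul r v => rw [← TensorProduct.tmul_smul, hVP c hc v, TensorProduct.tmul_zero]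
    | add z w hz hw => rw [smul_add, hz, hw, add_zero]
  obtain ⟨m, hm⟩ := exists_pow_smul_eq_zero P f (R ⊗[B] V) hPD y hzero
  have h1 := congrArg (fun z => TensorProduct.rid B R (LinearMap.lTensor R V.subtype z)) hm
  simp only [map_smul, hy, TensorProduct.rid_tmul, one_smul, map_zero] at h1
  have h2 : algebraMap B R (f ^ m) ∈ Q := by
    rw [hQmem, ← Algebra.smul_def]; exact h1
  rw [map_pow] at h2
  exact hfP (hQ.mem_of_pow_mem m h2)

end flatBaseChange

end SchDomLib
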