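import Groth.Agent.SchDomLib.Univ

/-!
# Dominance on the fibres of a flat family over a Noetherian scheme is universal (algebra)
-/

set_option autoImplicit false
set_option linter.style.haveILetI false

universe u v

open TensorProduct

noncomputable section

namespace SchDomLib

theorem exists_smul_mem_smul_top {T : Type u} [CommRing T] (p : Ideal T) [p.IsPrime] {M : Type u} [AddCommGroup M]
    [Module T M] (z : M) (h : (1 : p.ResidueField) ⊗ₜ[T] z = 0) :
    ∃ t ∉ p, t • z ∈ p • (⊤ : Submodule T M) := by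
  let W := M ⧸ p • (⊤ : Submodule T M)
  let θ : p.ResidueField ⊗[T] M →ₗ[T] p.ResidueField ⊗[T ⧸ p] W :=
    TensorProduct.lift (LinearMap.mk₂ T (fun c m => c ⊗ₜ[T ⧸ p] (Submodule.Quotient.mk m : W))
      (fun c c' m => TensorProduct.add_tmul c c' _) (fun a c m => TensorProduct.smul_tmul' a c _)
      (fun c m m' => by rw [Submodule.Quotient.mk_add, TensorProduct.tmul_add])
      (fun a c m => by rw [Submodule.Quotient.mk_smul, TensorProduct.tmul_smul]))
  have h' := congrArg θ h
  rw [map_zero] at h'
  haveI : IsLocalizedModule (nonZeroDivisors (T ⧸ p)) (TensorProduct.mk (T ⧸ p) p.ResidueField W 1) :=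
    IsLocalization.tensorProduct_isLocalizedModule _ _
  obtain ⟨⟨o, ho⟩, ho'⟩ := (IsLocalizedModule.eq_zero_iff (nonZeroDivisors (T ⧸ p))
    (TensorProduct.mk (T ⧸ p) p.ResidueField W 1) (m := (Submodule.Quotient.mk z : W))).1 h'
  obtain ⟨t, rfl⟩ := Ideal.Quotient.mk_surjective o
  refine ⟨t, fun ht => nonZeroDivisors.ne_zero ho (Ideal.Quotient.eq_zero_iff_mem.2 ht), ?_⟩
  exact (Submodule.Quotient.mk_eq_zero _).1 ho'

variable {J : Type v} {A B : Type u} [CommRing A] [CommRing B] [Algebra A B] {C : J → Type u}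
  [∀ j, CommRing (C j)] [∀ j, Algebra A (C j)] (u : ∀ j, B →ₐ[A] C j)

section step

variable {T : Type u} [CommRing T] [Algebra A T] (N : Ideal T)

/-- Multiplication `N ⊗ M → M`. -/
def mu (M : Type u) [AddCommGroup M] [Module T M] : N ⊗[T] M →ₗ[T] M :=
  (TensorProduct.lid T M).toLinearMap ∘ₗ LinearMap.rTensor M N.subtype

theorem mu_tmul {M : Type u} [AddCommGroup M] [Module T M] (a : N) (m : M) : mu N M (a ⊗ₜ m) = (a : T) • m := rfl

theorem mu_lTensor {M M' : Type u} [AddCommGroup M] [Module T M] [AddCommGroup M'] [Module T M'] (f : M →ₗ[T] M')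
    (x : N ⊗[T] M) : mu N M' (LinearMap.lTensor N f x) = f (mu N M x) := by
  induction x using TensorProduct.induction_on with
  | zero => simp
  | tmul a m => simp [mu_tmul]
  | add x y hx hy => simp [map_add, hx, hy]

variable (k' : Type u) [Field k'] [Algebra A k'] [Algebra T k'] [IsScalarTower A T k']

/-- Reduction to the fibre. -/
def red (D : Type u) [CommRing D] [Algebra A D] : T ⊗[A] D →ₐ[T] k' ⊗[A] D :=
  Algebra.TensorProduct.map (Algebra.ofId T k') (AlgHom.id A D)

/-- The component along a functional. -/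
def comp (D : Type u) [CommRing D] [Algebra A D] (c : N →ₗ[T] k') : N ⊗[T] (T ⊗[A] D) →ₗ[T] k' ⊗[A] D :=
  TensorProduct.lift (LinearMap.mk₂ T (fun a r => c a • red k' D r)
    (fun a a' r => by rw [map_add, add_smul]) (fun t a r => by rw [map_smul, smul_assoc])
    (fun a r r' => by rw [map_add, smul_add]) (fun t a r => by rw [map_smul, smul_comm]))

theorem comp_tmul (D : Type u) [CommRing D] [Algebra A D] (c : N →ₗ[T] k') (a : N) (r : T ⊗[A] D) :
    comp N k' D c (a ⊗ₜ r) = c a • red k' D r := rfl

theorem bc_comp (c : N →ₗ[T] k') (j : J) (x : N ⊗[T] (T ⊗[A] B)) :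
    bc u k' j (comp N k' B c x) = comp N k' (C j) c (LinearMap.lTensor N (bc u T j).toLinearMap x) := by
  induction x using TensorProduct.induction_on with
  | zero => simp
  | tmul a r =>
    rw [LinearMap.lTensor_tmul, comp_tmul, comp_tmul, map_smul]
    congr 1
    exact bc_map u (IsScalarTower.toAlgHom A T k') j r
  | add x y hx hy => simp [map_add, hx, hy]

theorem comp_mul (c : N →ₗ[T] k') (g : T ⊗[A] B) (x : N ⊗[T] (T ⊗[A] B)) :
    comp N k' B c (LinearMap.lTensor N (LinearMap.mulLeft T g) x) = red k' B g * comp N k' B c x := by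
  induction x using TensorProduct.induction_on with
  | zero => simp
  | tmul a r => rw [LinearMap.lTensor_tmul, comp_tmul, comp_tmul, LinearMap.mulLeft_apply, map_mul, mul_smul_comm]
  | add x y hx hy => simp [map_add, hx, hy, mul_add]

/-- Only finitely many components are non-zero. -/
theorem exists_support {ι : Type u} (β : Module.Basis ι k' (k' ⊗[T] N)) (x : N ⊗[T] (T ⊗[A] B)) :
    ∃ sf : Finset ι, ∀ l ∉ sf, comp N k' B (((Finsupp.lapply l).comp β.repr.toLinearMap).restrictScalars T ∘ₗ
      TensorProduct.mk T k' N 1) x = 0 := by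
  classical
  induction x using TensorProduct.induction_on with
  | zero => exact ⟨∅, fun l _ => map_zero _⟩
  | tmul a r =>
    refine ⟨(β.repr (1 ⊗ₜ a)).support, fun l hl => ?_⟩
    rw [comp_tmul]
    change β.repr (1 ⊗ₜ a) l • _ = _
    rw [Finsupp.notMem_support_iff.1 hl, zero_smul]
  | add z w hz hw =>
    obtain ⟨s₁, h₁⟩ := hz
    obtain ⟨s₂, h₂⟩ := hw
    exact ⟨s₁ ∪ s₂, fun l hl => by
      rw [map_add, h₁ l (fun h => hl (Finset.mem_union_left _ h)),
        h₂ l (fun h => hl (Finset.mem_union_right _ h)), add_zero]⟩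

/-- An element whose components all vanish vanishes on the fibre. -/
theorem one_tmul_eq_zero {ι : Type u} (β : Module.Basis ι k' (k' ⊗[T] N)) (x : N ⊗[T] (T ⊗[A] B))
    (h : ∀ l, comp N k' B (((Finsupp.lapply l).comp β.repr.toLinearMap).restrictScalars T ∘ₗ
      TensorProduct.mk T k' N 1) x = 0) : (1 : k') ⊗ₜ[T] x = 0 := by
  classical
  let F : B → (N →ₗ[T] N ⊗[T] (T ⊗[A] B)) := fun b => (TensorProduct.mk T N (T ⊗[A] B)).flip ((1 : T) ⊗ₜ b)
  let Hl : ι → B →ₗ[A] k' ⊗[T] (N ⊗[T] (T ⊗[A] B)) := fun l =>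
    { toFun := fun b => (F b).baseChange k' (β l)
      map_add' := fun b b' => by
        simp only [F, TensorProduct.tmul_add, map_add, LinearMap.baseChange_add, LinearMap.add_apply]
      map_smul' := fun a b => by
        rw [show F (a • b) = algebraMap A T a • F b by
          simp only [F, TensorProduct.tmul_smul, RingHom.id_apply]
          rw [← algebraMap_smul T a ((1 : T) ⊗ₜ[A] b), map_smul],
          LinearMap.baseChange_smul, LinearMap.smul_apply, RingHom.id_apply, algebraMap_smul] }
  let Gi : (ι →₀ k' ⊗[A] B) →ₗ[k'] k' ⊗[T] (N ⊗[T] (T ⊗[A] B)) :=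
    Finsupp.lsum k' fun l => LinearMap.liftBaseChange k' (Hl l)
  let cl : ι → N →ₗ[T] k' := fun l =>
    ((Finsupp.lapply l).comp β.repr.toLinearMap).restrictScalars T ∘ₗ TensorProduct.mk T k' N 1
  suffices key : ∀ (y : N ⊗[T] (T ⊗[A] B)), ∃ s : Finset ι, (∀ l ∉ s, comp N k' B (cl l) y = 0) ∧
      (1 : k') ⊗ₜ[T] y = ∑ l ∈ s, LinearMap.liftBaseChange k' (Hl l) (comp N k' B (cl l) y) by
    obtain ⟨s, -, hs⟩ := key x
    rw [hs]
    exact Finset.sum_eq_zero fun l _ => by
      rw [show comp N k' B (cl l) x = 0 from h l, map_zero]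
  intro y
  induction y using TensorProduct.induction_on with
  | zero => exact ⟨∅, fun l _ => map_zero _, by simp⟩
  | tmul a r =>
    induction r using TensorProduct.induction_on with
    | zero => exact ⟨∅, fun l _ => by simp, by simp⟩
    | tmul t b =>
      refine ⟨(β.repr (1 ⊗ₜ a)).support, fun l hl => ?_, ?_⟩
      · rw [comp_tmul]
        change β.repr (1 ⊗ₜ a) l • _ = _
        rw [Finsupp.notMem_support_iff.1 hl, zero_smul]
      · have hb : (1 : k') ⊗ₜ[T] (a ⊗ₜ[T] (t ⊗ₜ[A] b)) = t • (F b).baseChange k' ((1 : k') ⊗ₜ a) := by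
          rw [LinearMap.baseChange_tmul, ← TensorProduct.tmul_smul]
          congr 1
          simp only [F, LinearMap.flip_apply, TensorProduct.mk_apply]
          rw [← TensorProduct.tmul_smul, TensorProduct.smul_tmul', smul_eq_mul, mul_one]
        conv_lhs => rw [hb, ← β.linearCombination_repr ((1 : k') ⊗ₜ a)]
        rw [Finsupp.linearCombination_apply, Finsupp.sum, map_sum, Finset.smul_sum]
        refine Finset.sum_congr rfl fun l _ => ?_
        rw [comp_tmul, map_smul]
        change t • β.repr (1 ⊗ₜ a) l • Hl l b = LinearMap.liftBaseChange k' (Hl l)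
          (β.repr (1 ⊗ₜ a) l • red k' B (t ⊗ₜ b))
        rw [map_smul, red, Algebra.TensorProduct.map_tmul, LinearMap.liftBaseChange_tmul, smul_comm]
        congr 1
        rw [AlgHom.id_apply, Algebra.ofId_apply, algebraMap_smul]
    | add r r' hr hr' =>
      obtain ⟨s, hs₀, hs⟩ := hr
      obtain ⟨s', hs₀', hs'⟩ := hr'
      refine ⟨s ∪ s', fun l hl => ?_, ?_⟩
      · rw [TensorProduct.tmul_add, map_add, hs₀ l (fun h => hl (Finset.mem_union_left _ h)),
          hs₀' l (fun h => hl (Finset.mem_union_right _ h)), add_zero]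
      · rw [TensorProduct.tmul_add, TensorProduct.tmul_add, hs, hs',
          Finset.sum_subset (Finset.subset_union_left : s ⊆ s ∪ s') (fun l _ hl => by rw [hs₀ l hl, map_zero]),
          Finset.sum_subset (Finset.subset_union_right : s' ⊆ s ∪ s') (fun l _ hl => by rw [hs₀' l hl, map_zero]),
          ← Finset.sum_add_distrib]
        exact Finset.sum_congr rfl fun l _ => by rw [map_add, map_add]
  | add y y' hy hy' =>
    obtain ⟨s, hs₀, hs⟩ := hy
    obtain ⟨s', hs₀', hs'⟩ := hy'
    refine ⟨s ∪ s', fun l hl => ?_, ?_⟩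
    · rw [map_add, hs₀ l (fun h => hl (Finset.mem_union_left _ h)),
        hs₀' l (fun h => hl (Finset.mem_union_right _ h)), add_zero]
    · rw [TensorProduct.tmul_add, hs, hs',
        Finset.sum_subset (Finset.subset_union_left : s ⊆ s ∪ s') (fun l _ hl => by rw [hs₀ l hl, map_zero]),
        Finset.sum_subset (Finset.subset_union_right : s' ⊆ s ∪ s') (fun l _ hl => by rw [hs₀' l hl, map_zero]),
        ← Finset.sum_add_distrib]
      exact Finset.sum_congr rfl fun l _ => by rw [map_add, map_add]

end step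

variable [∀ j, Module.Flat A (C j)] [IsNoetherianRing B]

set_option maxHeartbeats 3200000 in
set_option synthInstance.maxHeartbeats 400000 in
/-- EGA IV 11.10.9, algebraic form. -/
theorem dom_univ (h : ∀ (p : Ideal A) [p.IsPrime], Dom fun j => (bc u p.ResidueField j).toRingHom)
    (A' : Type u) [CommRing A'] [Algebra A A'] : Dom fun j => (bc u A' j).toRingHom := by
  classical
  refine dom_of_fg u A' fun T₁ hT₁ => ?_
  haveI : Algebra.FiniteType A T₁ := T₁.fg_iff_finiteType.1 hT₁
  let B' := T₁ ⊗[A] B
  haveI : IsNoetherianRing (B ⊗[A] T₁) := Algebra.FiniteType.isNoetherianRing B _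
  haveI : IsNoetherianRing B' :=
    isNoetherianRing_of_ringEquiv (B ⊗[A] T₁) (Algebra.TensorProduct.comm A B T₁).toRingEquiv
  intro g b hb
  by_contra hcon
  push Not at hcon
  let I : Ideal B' :=
    { carrier := {r | ∃ m : ℕ, g ^ m * (r * b) = 0}
      zero_mem' := ⟨0, by simp⟩
      add_mem' := fun {r r'} ⟨m, hm⟩ ⟨m', hm'⟩ => ⟨m + m', by
        linear_combination (g ^ m') * hm + (g ^ m) * hm'⟩
      smul_mem' := fun c r ⟨m, hm⟩ => ⟨m, by
        change g ^ m * (c * r * b) = 0
        linear_combination c * hm⟩ }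
  have hdisj : Disjoint (I : Set B') (Submonoid.powers g : Set B') := by
    rw [Set.disjoint_left]
    rintro _ ⟨m, hm⟩ ⟨m', rfl⟩
    exact hcon (m + m') (by linear_combination hm)
  obtain ⟨Q, hQ, hIQ, hQg⟩ := Ideal.exists_le_prime_disjoint I _ hdisj
  let p' : Ideal T₁ := Q.comap (algebraMap T₁ B')
  let p : Ideal A := p'.comap (algebraMap A T₁)
  letI : Algebra p.ResidueField p'.ResidueField := (Ideal.ResidueField.map p p' (algebraMap A T₁) rfl).toAlgebra
  haveI : IsScalarTower A p.ResidueField p'.ResidueField := IsScalarTower.of_algebraMap_eq fun a => by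
    change _ = Ideal.ResidueField.map p p' (algebraMap A T₁) rfl (algebraMap A p.ResidueField a)
    rw [IsScalarTower.algebraMap_apply A T₁ p'.ResidueField]
    simp
  haveI := isNoetherianRing_residueField_tensor (B := B) p
  have hk' : Dom fun j => (bc u p'.ResidueField j).toRingHom := dom_of_field u (h p)
  have claim : ∀ n : ℕ, ∃ s ∉ Q, s * b ∈ (p' ^ n).map (algebraMap T₁ B') := by
    intro n
    induction n with
    | zero => exact ⟨1, fun h => hQ.ne_top ((Ideal.eq_top_iff_one _).2 h), by
        rw [pow_zero, Ideal.one_eq_top, Ideal.map_top]; exact Submodule.mem_top⟩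
    | succ n ih =>
      obtain ⟨s, hs, hsb⟩ := ih
      let N := p' ^ n
      obtain ⟨x, hx⟩ : ∃ x : N ⊗[T₁] B', mu N B' x = s * b := by
        refine Submodule.span_induction (p := fun z _ => ∃ x : N ⊗[T₁] B', mu N B' x = z) ?_ ?_ ?_ ?_ hsb
        · rintro _ ⟨a, ha, rfl⟩
          exact ⟨⟨a, ha⟩ ⊗ₜ 1, (mu_tmul N _ _).trans (Algebra.algebraMap_eq_smul_one a).symm⟩
        · exact ⟨0, map_zero _⟩
        · rintro z w _ _ ⟨x, rfl⟩ ⟨y, rfl⟩
          exact ⟨x + y, map_add _ _ _⟩
        · rintro r z _ ⟨x, rfl⟩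
          exact ⟨LinearMap.lTensor N (LinearMap.mulLeft T₁ r) x, by rw [mu_lTensor]; rfl⟩
      let β := Module.Free.chooseBasis p'.ResidueField (p'.ResidueField ⊗[T₁] N)
      let cl := fun l => ((Finsupp.lapply l).comp β.repr.toLinearMap).restrictScalars T₁ ∘ₗ
        TensorProduct.mk T₁ p'.ResidueField N 1
      have hl : ∀ l, ∃ M : ℕ, red p'.ResidueField B g ^ M * comp N p'.ResidueField B (cl l) x = 0 := by
        intro l
        refine hk' _ _ fun j => ?_
        obtain ⟨m, hm⟩ := hb j
        refine ⟨m, ?_⟩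
        change bc u p'.ResidueField j _ = 0
        rw [← map_pow, ← comp_mul, bc_comp]
        suffices hz : LinearMap.lTensor N (bc u T₁ j).toLinearMap (LinearMap.lTensor N (LinearMap.mulLeft T₁ (g ^ m)) x)
            = 0 by rw [hz, map_zero]
        have hi : Function.Injective (mu N (T₁ ⊗[A] C j)) := by
          intro z w hzw
          exact Module.Flat.rTensor_preserves_injective_linearMap (M := T₁ ⊗[A] C j) N.subtype Subtype.val_injective
            ((TensorProduct.lid T₁ _).injective hzw)
        refine hi ?_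
        rw [mu_lTensor, mu_lTensor, hx, map_zero, LinearMap.mulLeft_apply, AlgHom.toLinearMap_apply, mul_left_comm,
          map_mul, show bc u T₁ j (g ^ m * b) = 0 from hm, mul_zero]
      choose Ml hMl using hl
      -- only finitely many components matter
      obtain ⟨sf, hsf⟩ := exists_support N p'.ResidueField β x
      let M := sf.sup Ml
      let xM := LinearMap.lTensor N (LinearMap.mulLeft T₁ (g ^ M)) x
      have hz : (1 : p'.ResidueField) ⊗ₜ[T₁] xM = 0 := by
        refine one_tmul_eq_zero N p'.ResidueField β xM fun l => ?_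
        rw [comp_mul, map_pow]
        by_cases hl : l ∈ sf
        · obtain ⟨d, hd⟩ := Nat.exists_eq_add_of_le (Finset.le_sup (f := Ml) hl)
          rw [show M = Ml l + d from hd, pow_add, mul_right_comm, hMl l, zero_mul]
        · rw [hsf l hl, mul_zero]
      obtain ⟨t, ht, htx⟩ := exists_smul_mem_smul_top p' xM hz
      refine ⟨algebraMap T₁ B' t * (g ^ M * s), ?_, ?_⟩
      · intro hmem
        rcases hQ.mem_or_mem hmem with h1 | h1
        · exact ht h1
        · rcases hQ.mem_or_mem h1 with h2 | h2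
          · exact Set.disjoint_left.1 hQg (hQ.mem_of_pow_mem M h2) (Submonoid.mem_powers g)
          · exact hs h2
      · have h1 : mu N B' (t • xM) ∈ (p' ^ (n + 1)).map (algebraMap T₁ B') := by
          refine Submodule.smul_induction_on htx ?_ ?_
          · intro a ha z hz'
            clear hz'
            rw [map_smul]
            induction z using TensorProduct.induction_on with
            | zero => simp
            | tmul c r =>
              rw [mu_tmul, smul_smul]
              have e : (a * (c : T₁)) • r = algebraMap T₁ B' (a * c) * r := (algebraMap_smul B' _ r).symm.trans rfl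
              rw [e]
              exact Ideal.mul_mem_right _ _ (Ideal.mem_map_of_mem _ (by
                rw [pow_succ']; exact Ideal.mul_mem_mul ha c.2))
            | add z w hz hw => rw [map_add, smul_add]; exact add_mem hz hw
          · intro z w hz hw; rw [map_add]; exact add_mem hz hw
        rw [map_smul, mu_lTensor, hx, LinearMap.mulLeft_apply] at h1
        have e : t • (g ^ M * (s * b)) = algebraMap T₁ B' t * (g ^ M * (s * b)) :=
          (algebraMap_smul B' t _).symm.trans rfl
        rw [e] at h1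
        rwa [← mul_assoc (g ^ M), ← mul_assoc (algebraMap T₁ B' t)] at h1
  haveI := hQ
  let BQ := Localization.AtPrime Q
  haveI : IsNoetherianRing BQ := IsLocalization.isNoetherianRing Q.primeCompl BQ inferInstance
  have hb0 : algebraMap B' BQ b = 0 := by
    have hinf := Ideal.iInf_pow_eq_bot_of_isLocalRing (R := BQ) (I := IsLocalRing.maximalIdeal BQ)
      (IsLocalRing.maximalIdeal.isMaximal BQ).ne_top
    suffices hall : ∀ n : ℕ, algebraMap B' BQ b ∈ IsLocalRing.maximalIdeal BQ ^ n by
      have h2 : algebraMap B' BQ b ∈ ⨅ n : ℕ, IsLocalRing.maximalIdeal BQ ^ n := Ideal.mem_iInf.2 hall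
      rw [hinf] at h2
      exact (Submodule.mem_bot BQ).1 h2
    intro n
    obtain ⟨s, hs, hsb⟩ := claim n
    have h1 : algebraMap B' BQ (s * b) ∈ IsLocalRing.maximalIdeal BQ ^ n := by
      have := Ideal.mem_map_of_mem (algebraMap B' BQ) hsb
      refine (Ideal.map_mono (f := algebraMap B' BQ) (J := Q ^ n) ?_).trans ?_ this
      · exact (Ideal.map_pow (algebraMap T₁ B') p' n).le.trans (Ideal.pow_right_mono Ideal.map_comap_le n)
      · rw [Ideal.map_pow, Localization.AtPrime.map_eq_maximalIdeal]
    rw [map_mul] at h1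
    exact (Ideal.unit_mul_mem_iff_mem _ (IsLocalization.map_units BQ (⟨s, hs⟩ : Q.primeCompl))).1 h1
  obtain ⟨⟨s, hs⟩, hsb⟩ := (IsLocalization.map_eq_zero_iff Q.primeCompl BQ b).1 hb0
  exact hs (hIQ ⟨0, by rw [pow_zero, one_mul]; exact hsb⟩)

end SchDomLib
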