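import Groth.Agent.SchDomLib.Algebra

/-!
# Schematic dominance on fibres gives universal schematic dominance (algebra)
-/

set_option autoImplicit false
set_option linter.style.haveILetI false

universe u v

open TensorProduct

noncomputable section

namespace SchDomLib

variable {J : Type v} {A B : Type u} [CommRing A] [CommRing B] [Algebra A B] {C : J → Type u}
  [∀ j, CommRing (C j)] [∀ j, Algebra A (C j)] (u : ∀ j, B →ₐ[A] C j)

/-- The base change of the family to an `A`-algebra. -/
def bc (T : Type u) [CommRing T] [Algebra A T] (j : J) : T ⊗[A] B →ₐ[T] T ⊗[A] C j :=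
  Algebra.TensorProduct.map (AlgHom.id T T) (u j)

theorem bc_map {T T' : Type u} [CommRing T] [Algebra A T] [CommRing T'] [Algebra A T'] (θ : T →ₐ[A] T') (j : J)
    (z : T ⊗[A] B) :
    bc u T' j (Algebra.TensorProduct.map θ (AlgHom.id A B) z) =
      Algebra.TensorProduct.map θ (AlgHom.id A (C j)) (bc u T j z) := by
  induction z using TensorProduct.induction_on with
  | zero => simp
  | tmul t b => simp [bc]
  | add z w hz hw => simp [map_add, hz, hw]

/-- It suffices to treat subalgebras of finite type. -/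
theorem dom_of_fg [∀ j, Module.Flat A (C j)] (T : Type u) [CommRing T] [Algebra A T]
    (h : ∀ T₁ : Subalgebra A T, T₁.FG → Dom fun j => (bc u T₁ j).toRingHom) :
    Dom fun j => (bc u T j).toRingHom := by
  classical
  intro g b hb
  obtain ⟨Sg, hSg⟩ := TensorProduct.exists_finset g
  obtain ⟨Sb, hSb⟩ := TensorProduct.exists_finset b
  let T₁ : Subalgebra A T := Algebra.adjoin A (((Sg ∪ Sb).image Prod.fst : Finset T) : Set T)
  have hlift : ∀ (z : T ⊗[A] B) (S : Finset (T × B)), z = ∑ i ∈ S, i.1 ⊗ₜ i.2 → S ⊆ Sg ∪ Sb →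
      ∃ z' : T₁ ⊗[A] B, Algebra.TensorProduct.map T₁.val (AlgHom.id A B) z' = z := by
    intro z S hz hS
    have hmem : ∀ i ∈ S, i.1 ∈ T₁ := fun i hi =>
      Algebra.subset_adjoin (Finset.mem_coe.2 (Finset.mem_image_of_mem _ (hS hi)))
    exact ⟨∑ i ∈ S.attach, (⟨i.1.1, hmem i.1 i.2⟩ : T₁) ⊗ₜ i.1.2, by
      rw [map_sum, hz, ← Finset.sum_attach S]
      simp⟩
  obtain ⟨g', rfl⟩ := hlift g Sg hSg Finset.subset_union_left
  obtain ⟨b', rfl⟩ := hlift b Sb hSb Finset.subset_union_right
  obtain ⟨m, hm⟩ := h T₁ (Subalgebra.fg_adjoin_finset _) g' b' fun j => (hb j).imp fun m hm => by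
    have hi : Function.Injective (Algebra.TensorProduct.map T₁.val (AlgHom.id A (C j))) :=
      Module.Flat.rTensor_preserves_injective_linearMap (M := C j) T₁.val.toLinearMap Subtype.val_injective
    refine hi ?_
    change Algebra.TensorProduct.map T₁.val (AlgHom.id A (C j)) (bc u T₁ j (g' ^ m * b')) = _
    rw [← bc_map, map_mul, map_pow, map_zero]
    exact hm
  exact ⟨m, by rw [← map_pow, ← map_mul, hm, map_zero]⟩

/-- Schematic dominance passes to flat algebras of finite type. -/
theorem dom_flat_finiteType {B : Type u} [CommRing B] [IsNoetherianRing B] {C : J → Type u} [∀ j, CommRing (C j)]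
    [∀ j, Algebra B (C j)] (H : Dom fun j => algebraMap B (C j)) {R : Type u} [CommRing R] [Algebra B R]
    [Algebra.FiniteType B R] [Module.Flat B R] {D : J → Type u} [∀ j, CommRing (D j)] (ψ : ∀ j, R →+* D j)
    (π : ∀ j, D j →+* R ⊗[B] C j) (hπ : ∀ j r, π j (ψ j r) = r ⊗ₜ 1) : Dom ψ := by
  intro g b hb
  let Rg := Localization.Away g
  haveI : Algebra.FiniteType B Rg := Algebra.FiniteType.trans (S := R) inferInstance inferInstance
  haveI : Module.Flat R Rg := IsLocalization.flat Rg (Submonoid.powers g)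
  haveI : Module.Flat B Rg := Module.Flat.trans B R Rg
  have h0 : algebraMap R Rg b = 0 := by
    refine eq_zero_of_tmul_one (B := B) (C := C) H _ fun j => ?_
    obtain ⟨m, hm⟩ := hb j
    have h1 := congrArg (π j) hm
    rw [map_zero, hπ] at h1
    have h2 := congrArg (Algebra.TensorProduct.map (IsScalarTower.toAlgHom B R Rg) (AlgHom.id B (C j))) h1
    rw [map_zero, Algebra.TensorProduct.map_tmul, map_mul, map_pow, AlgHom.id_apply, ← mul_one (1 : C j),
      ← Algebra.TensorProduct.tmul_mul_tmul] at h2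
    exact (((IsLocalization.Away.algebraMap_isUnit g).pow m).map
      (Algebra.TensorProduct.includeLeft : Rg →ₐ[B] Rg ⊗[B] C j)).mul_right_eq_zero.1 h2
  obtain ⟨⟨_, m, rfl⟩, hm⟩ := (IsLocalization.map_eq_zero_iff (Submonoid.powers g) Rg b).1 h0
  exact ⟨m, hm⟩

set_option maxHeartbeats 1600000 in
set_option synthInstance.maxHeartbeats 200000 in
/-- Base change from a field. -/
theorem dom_of_field [∀ j, Module.Flat A (C j)] {k : Type u} [Field k] [Algebra A k] {T : Type u} [CommRing T]
    [Algebra A T] [Algebra k T] [IsScalarTower A k T] [IsNoetherianRing (k ⊗[A] B)]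
    (h : Dom fun j => (bc u k j).toRingHom) : Dom fun j => (bc u T j).toRingHom := by
  let Bk := k ⊗[A] B
  let Ck : J → Type u := fun j => k ⊗[A] C j
  let uk : ∀ j, Bk →ₐ[k] Ck j := bc u k
  suffices hk : Dom fun j => (bc uk T j).toRingHom by
    refine hk.of_equiv (Algebra.TensorProduct.cancelBaseChange A k T T B).toRingEquiv
      (fun j => (Algebra.TensorProduct.cancelBaseChange A k T T (C j)).toRingEquiv) fun j z => ?_
    induction z using TensorProduct.induction_on with
    | zero => simp
    | tmul t x =>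
      induction x using TensorProduct.induction_on with
      | zero => simp [bc]
      | tmul c b => simp [bc, uk]; rfl
      | add x y hx hy =>
        simp only [TensorProduct.tmul_add, map_add, hx, hy]
    | add z w hz hw => simp only [map_add, hz, hw]
  refine dom_of_fg uk T fun T₁ hT₁ => ?_
  haveI : Algebra.FiniteType k T₁ := T₁.fg_iff_finiteType.1 hT₁
  letI : ∀ j, Algebra Bk (Ck j) := fun j => (uk j).toRingHom.toAlgebra
  letI : Algebra Bk (T₁ ⊗[k] Bk) := Algebra.TensorProduct.rightAlgebra
  haveI : Module.Flat Bk (T₁ ⊗[k] Bk) := by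
    refine Module.Flat.of_linearEquiv (M := Bk ⊗[k] T₁) (?_ : (T₁ ⊗[k] Bk) ≃ₗ[Bk] Bk ⊗[k] T₁)
    refine { (Algebra.TensorProduct.comm k T₁ Bk).toLinearEquiv.toAddEquiv with map_smul' := fun c z => ?_ }
    induction z using TensorProduct.induction_on with
    | zero => simp
    | tmul t x =>
      simp only [Algebra.smul_def]
      change TensorProduct.comm k T₁ Bk (((1 : T₁) ⊗ₜ[k] c) * (t ⊗ₜ[k] x)) = _
      rw [Algebra.TensorProduct.tmul_mul_tmul, one_mul, TensorProduct.comm_tmul]
      change (c * x) ⊗ₜ[k] t = c • (x ⊗ₜ[k] t)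
      rw [TensorProduct.smul_tmul']
      rfl
    | add z w hz hw => simp_all [smul_add, map_add]
  haveI : Algebra.FiniteType Bk (T₁ ⊗[k] Bk) := by
    refine Algebra.FiniteType.equiv (A := Bk ⊗[k] T₁) inferInstance
      (AlgEquiv.ofRingEquiv (f := (Algebra.TensorProduct.comm k Bk T₁).toRingEquiv) fun x => ?_)
    simp [Algebra.TensorProduct.right_algebraMap_apply]; rfl
  haveI : ∀ j, IsScalarTower k Bk (Ck j) := fun j => IsScalarTower.of_algebraMap_eq' (uk j).comp_algebraMap.symm
  haveI : IsScalarTower k Bk (T₁ ⊗[k] Bk) := IsScalarTower.of_algebraMap_eq fun c => by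
    rw [Algebra.TensorProduct.right_algebraMap_apply, Algebra.TensorProduct.algebraMap_apply,
      Algebra.algebraMap_eq_smul_one, Algebra.algebraMap_eq_smul_one, TensorProduct.smul_tmul]
  let π : ∀ j, T₁ ⊗[k] Ck j →ₐ[k] (T₁ ⊗[k] Bk) ⊗[Bk] Ck j := fun j =>
    Algebra.TensorProduct.lift
      (((Algebra.TensorProduct.includeLeft : (T₁ ⊗[k] Bk) →ₐ[k] (T₁ ⊗[k] Bk) ⊗[Bk] Ck j)).comp
        (Algebra.TensorProduct.includeLeft : T₁ →ₐ[k] T₁ ⊗[k] Bk))
      ((Algebra.TensorProduct.includeRight : Ck j →ₐ[Bk] (T₁ ⊗[k] Bk) ⊗[Bk] Ck j).restrictScalars k)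
      fun _ _ => by simp [Commute, SemiconjBy, Algebra.TensorProduct.tmul_mul_tmul]
  refine dom_flat_finiteType (B := Bk) (C := Ck) h (fun j => (bc uk T₁ j).toRingHom)
    (fun j => (π j).toRingHom) fun j z => ?_
  change π j (bc uk T₁ j z) = z ⊗ₜ (1 : Ck j)
  induction z using TensorProduct.induction_on with
  | zero => simp
  | tmul t x =>
    have e : (t ⊗ₜ[k] x : T₁ ⊗[k] Bk) = x • (t ⊗ₜ[k] (1 : Bk)) := by
      rw [Algebra.smul_def, Algebra.TensorProduct.right_algebraMap_apply, Algebra.TensorProduct.tmul_mul_tmul,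
        one_mul, mul_one]
    conv_rhs => rw [e, TensorProduct.smul_tmul, Algebra.smul_def, mul_one]
    simp [π, bc]
    rfl
  | add z w hz hw => rw [map_add, map_add, hz, hw, TensorProduct.add_tmul]

section graded

variable [∀ j, Module.Flat A (C j)] [IsNoetherianRing B]

theorem isNoetherianRing_residueField_tensor (p : Ideal A) [p.IsPrime] :
    IsNoetherianRing (p.ResidueField ⊗[A] B) := by
  let M := Algebra.algebraMapSubmonoid B p.primeCompl
  let X := Localization M
  haveI : IsNoetherianRing X := IsLocalization.isNoetherianRing M X inferInstance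
  let i : B →+* p.ResidueField ⊗[A] B :=
    (Algebra.TensorProduct.includeRight : B →ₐ[A] p.ResidueField ⊗[A] B).toRingHom
  have hu : ∀ y : M, IsUnit (i y) := by
    rintro ⟨_, s, hs, rfl⟩
    change IsUnit ((Algebra.TensorProduct.includeRight : B →ₐ[A] p.ResidueField ⊗[A] B) (algebraMap A B s))
    rw [AlgHom.commutes, Algebra.TensorProduct.algebraMap_apply]
    exact ((isUnit_iff_ne_zero.2 fun h => hs (Ideal.algebraMap_residueField_eq_zero.1 h))).map
      (Algebra.TensorProduct.includeLeft : p.ResidueField →ₐ[A] p.ResidueField ⊗[A] B)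
  let θ : X →+* p.ResidueField ⊗[A] B := IsLocalization.lift hu
  refine isNoetherianRing_of_surjective X _ θ fun z => ?_
  induction z using TensorProduct.induction_on with
  | zero => exact ⟨0, map_zero _⟩
  | tmul c b =>
    obtain ⟨c', rfl⟩ := IsLocalRing.residue_surjective c
    obtain ⟨⟨a, s⟩, rfl⟩ := IsLocalization.mk'_surjective p.primeCompl c'
    refine ⟨IsLocalization.mk' X (algebraMap A B a * b) (⟨algebraMap A B s, Submonoid.mem_map_of_mem _ s.2⟩ : M), ?_⟩
    rw [IsLocalization.lift_mk'_spec]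
    change (Algebra.TensorProduct.includeRight : B →ₐ[A] p.ResidueField ⊗[A] B) (algebraMap A B a * b) =
      (Algebra.TensorProduct.includeRight : B →ₐ[A] p.ResidueField ⊗[A] B) (algebraMap A B s) * _
    rw [map_mul, AlgHom.commutes, AlgHom.commutes, Algebra.TensorProduct.algebraMap_apply,
      Algebra.TensorProduct.algebraMap_apply, Algebra.TensorProduct.includeRight_apply,
      Algebra.TensorProduct.tmul_mul_tmul, Algebra.TensorProduct.tmul_mul_tmul]
    congr 1
    · rw [mul_one, IsScalarTower.algebraMap_apply A (Localization.AtPrime p) p.ResidueField,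
        IsScalarTower.algebraMap_apply A (Localization.AtPrime p) p.ResidueField, IsLocalRing.ResidueField.algebraMap_eq,
        ← map_mul, ← IsLocalization.mk'_spec (Localization.AtPrime p) a s, mul_comm]
  | add z w hz hw =>
    obtain ⟨x, rfl⟩ := hz
    obtain ⟨y, rfl⟩ := hw
    exact ⟨x + y, map_add _ _ _⟩

end graded

end SchDomLib
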